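import Mathlib
import Cfsg.Prelude.Def_Transfer
import Cfsg.Agent.Lib.ZJ.Core

set_option autoImplicit false
set_option linter.unusedSectionVars false

/-!
Elementary abelian normal subgroups of a Sylow 2-subgroup built from a wreath product.
-/

namespace CfsgLib.NormalRank

open Equiv

variable {G K L : Type*} [Group G] [Group K] [Group L] {m : ℕ}

/-- Some normal elementary abelian subgroup of every Sylow 2-subgroup has order `k`. -/
def HasNormal (G : Type*) [Group G] (k : ℕ) : Prop :=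
  ∀ S : Sylow 2 G, ∃ E : Subgroup (S : Subgroup G), E.Normal ∧ Cfsg.IsElementaryAbelian 2 E ∧
    k ≤ Nat.card E

/-- All normal elementary abelian subgroups of Sylow 2-subgroups have order at most `k`. -/
def AllLe (G : Type*) [Group G] (k : ℕ) : Prop :=
  ∀ S : Sylow 2 G, ∀ E : Subgroup (S : Subgroup G), E.Normal → Cfsg.IsElementaryAbelian 2 E →
    Nat.card E ≤ k

theorem map_elem {A B : Type*} [Group A] [Group B] (f : A →* B) {E : Subgroup A}
    (hE : Cfsg.IsElementaryAbelian 2 E) : Cfsg.IsElementaryAbelian 2 (E.map f) := by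
  refine ⟨⟨⟨?_⟩⟩, ?_⟩
  · rintro ⟨_, a, ha, rfl⟩ ⟨_, b, hb, rfl⟩
    have h := hE.1.is_comm.comm ⟨a, ha⟩ ⟨b, hb⟩
    apply Subtype.ext
    show f a * f b = f b * f a
    rw [← map_mul, ← map_mul, show a * b = b * a from congrArg Subtype.val h]
  · rintro _ ⟨a, ha, rfl⟩
    rw [← map_pow, hE.2 a ha, map_one]

theorem hasNormal_of_one [Finite G] {k : ℕ} (S₀ : Sylow 2 G)
    (h : ∃ E : Subgroup (S₀ : Subgroup G), E.Normal ∧ Cfsg.IsElementaryAbelian 2 E ∧
      k ≤ Nat.card E) : HasNormal G k := by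
  haveI := Fact.mk Nat.prime_two
  intro S
  obtain ⟨E, hn, he, hk⟩ := h
  let e := S₀.equiv S
  refine ⟨E.map (e : (S₀ : Subgroup G) →* (S : Subgroup G)), hn.map _ e.surjective, map_elem _ he, ?_⟩
  rwa [Subgroup.card_map_of_injective (f := (e : (S₀ : Subgroup G) →* (S : Subgroup G))) e.injective]

theorem allLe_of_one [Finite G] {k : ℕ} (S₀ : Sylow 2 G)
    (h : ∀ E : Subgroup (S₀ : Subgroup G), E.Normal → Cfsg.IsElementaryAbelian 2 E →
      Nat.card E ≤ k) : AllLe G k := by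
  haveI := Fact.mk Nat.prime_two
  intro S E hn he
  let e := S.equiv S₀
  have := h (E.map (e : (S : Subgroup G) →* (S₀ : Subgroup G))) (hn.map _ e.surjective) (map_elem _ he)
  rwa [Subgroup.card_map_of_injective (f := (e : (S : Subgroup G) →* (S₀ : Subgroup G))) e.injective]
    at this

theorem HasNormal.congr {H : Type*} [Group H] [Finite G] {k : ℕ} (e : G ≃* H) (h : HasNormal G k) :
    HasNormal H k := by
  haveI : Finite H := Finite.of_equiv G e.toEquiv
  intro S
  let S' : Sylow 2 G := S.comapOfInjective e.toMonoidHom e.injective (by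
    intro x _; exact ⟨e.symm x, e.apply_symm_apply x⟩)
  obtain ⟨E, hn, he, hk⟩ := h S'
  let f : (S' : Subgroup G) →* (S : Subgroup H) :=
    { toFun := fun x => ⟨e (x : G), x.2⟩
      map_one' := Subtype.ext (map_one e)
      map_mul' := fun x y => Subtype.ext (map_mul e (x : G) (y : G)) }
  have hf : Function.Bijective f := ⟨fun x y hxy => Subtype.ext (e.injective (congrArg Subtype.val hxy)),
    fun y => ⟨⟨e.symm (y : H), by
      show e (e.symm (y : H)) ∈ (S : Subgroup H)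
      rw [e.apply_symm_apply]; exact y.2⟩, Subtype.ext (e.apply_symm_apply _)⟩⟩
  refine ⟨E.map f, hn.map _ hf.2, map_elem _ he, ?_⟩
  rwa [Subgroup.card_map_of_injective hf.1]

theorem AllLe.congr {H : Type*} [Group H] [Finite G] {k : ℕ} (e : G ≃* H) (h : AllLe G k) :
    AllLe H k := by
  haveI : Finite H := Finite.of_equiv G e.toEquiv
  intro S E hn he
  let S' : Sylow 2 G := S.comapOfInjective e.toMonoidHom e.injective (by
    intro x _; exact ⟨e.symm x, e.apply_symm_apply x⟩)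
  let f : (S : Subgroup H) →* (S' : Subgroup G) :=
    { toFun := fun x => ⟨e.symm (x : H), by
        show e (e.symm (x : H)) ∈ (S : Subgroup H)
        rw [e.apply_symm_apply]; exact x.2⟩
      map_one' := Subtype.ext (map_one e.symm)
      map_mul' := fun x y => Subtype.ext (map_mul e.symm (x : H) (y : H)) }
  have hf : Function.Bijective f := ⟨fun x y hxy => Subtype.ext (e.symm.injective (congrArg Subtype.val hxy)),
    fun y => ⟨⟨e (y : G), y.2⟩, Subtype.ext (e.symm_apply_apply _)⟩⟩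
  have := h S' (E.map f) (hn.map _ hf.2) (map_elem _ he)
  rwa [Subgroup.card_map_of_injective hf.1] at this

/-- An embedded wreath product with an extra direct factor. -/
structure Emb (G K L : Type*) [Group G] [Group K] [Group L] (m : ℕ) where
  /-- the base -/
  a : (Fin m → K) × L →* G
  /-- the permutations -/
  p : Perm (Fin m) →* G
  compat : ∀ (π : Perm (Fin m)) (f : Fin m → K) (l : L),
    p π * a (f, l) = a (fun i => f (π⁻¹ i), l) * p π
  inj : ∀ x π, a x = p π → x = 1 ∧ π = 1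

namespace Emb

/-- Permute the base. -/
def shift (π : Perm (Fin m)) (x : (Fin m → K) × L) : (Fin m → K) × L :=
  (fun i => x.1 (π⁻¹ i), x.2)

theorem mul_eq (M : Emb G K L m) (x y : (Fin m → K) × L) (π σ : Perm (Fin m)) :
    M.a x * M.p π * (M.a y * M.p σ) = M.a (x * shift π y) * M.p (π * σ) := by
  have h : M.p π * M.a y = M.a (shift π y) * M.p π := M.compat π y.1 y.2
  rw [map_mul, map_mul]
  calc M.a x * M.p π * (M.a y * M.p σ) = M.a x * (M.p π * M.a y) * M.p σ := by group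
    _ = _ := by rw [h]; group

theorem eq_iff (M : Emb G K L m) {x y : (Fin m → K) × L} {π σ : Perm (Fin m)}
    (h : M.a x * M.p π = M.a y * M.p σ) : x = y ∧ π = σ := by
  have e : M.a (y⁻¹ * x) = M.p (σ * π⁻¹) := by
    rw [map_mul, map_mul, map_inv, map_inv]
    calc (M.a y)⁻¹ * M.a x = (M.a y)⁻¹ * (M.a x * M.p π) * (M.p π)⁻¹ := by group
      _ = _ := by rw [h]; group
  obtain ⟨h1, h2⟩ := M.inj _ _ e
  exact ⟨(inv_mul_eq_one.1 h1).symm, (mul_inv_eq_one.1 h2).symm⟩

/-- The subgroup given by subgroups of the three ingredients. -/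
def sub (M : Emb G K L m) (W : Subgroup K) (B : Subgroup L) (P : Subgroup (Perm (Fin m))) :
    Subgroup G where
  carrier := {g | ∃ (x : (Fin m → K) × L) (π : Perm (Fin m)), (∀ i, x.1 i ∈ W) ∧ x.2 ∈ B ∧ π ∈ P ∧
    g = M.a x * M.p π}
  mul_mem' := by
    rintro _ _ ⟨x, π, hx, hx', hπ, rfl⟩ ⟨y, σ, hy, hy', hσ, rfl⟩
    exact ⟨x * shift π y, π * σ, fun i => mul_mem (hx i) (hy _), mul_mem hx' hy', mul_mem hπ hσ,
      M.mul_eq x y π σ⟩
  one_mem' := ⟨1, 1, fun _ => one_mem _, one_mem _, one_mem _, by simp⟩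
  inv_mem' := by
    rintro _ ⟨x, π, hx, hx', hπ, rfl⟩
    refine ⟨shift π⁻¹ x⁻¹, π⁻¹, fun i => inv_mem (hx _), inv_mem hx', inv_mem hπ, ?_⟩
    refine inv_eq_of_mul_eq_one_right ?_
    rw [M.mul_eq, mul_inv_cancel, map_one, mul_one]
    have : x * shift π (shift π⁻¹ x⁻¹) = 1 := by
      ext i <;> simp [shift]
    rw [this, map_one]

theorem card_sub (M : Emb G K L m) (W : Subgroup K) (B : Subgroup L)
    (P : Subgroup (Perm (Fin m))) :
    Nat.card (M.sub W B P) = Nat.card W ^ m * Nat.card B * Nat.card P := by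
  have e : Nat.card (((Fin m → W) × B) × P) = Nat.card (M.sub W B P) := by
    refine Nat.card_congr (Equiv.ofBijective (fun z => ⟨M.a (fun i => (z.1.1 i : K), (z.1.2 : L)) *
      M.p (z.2 : Perm (Fin m)), _, _, fun i => (z.1.1 i).2, z.1.2.2, z.2.2, rfl⟩) ⟨?_, ?_⟩)
    · rintro ⟨⟨f, l⟩, π⟩ ⟨⟨f', l'⟩, π'⟩ h
      obtain ⟨h1, h2⟩ := M.eq_iff (congrArg Subtype.val h)
      simp only [Prod.ext_iff, funext_iff] at h1
      refine Prod.ext (Prod.ext (funext fun i => Subtype.ext (h1.1 i)) (Subtype.ext h1.2))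
        (Subtype.ext h2)
    · rintro ⟨_, x, π, hx, hx', hπ, rfl⟩
      exact ⟨((fun i => ⟨x.1 i, hx i⟩, ⟨x.2, hx'⟩), ⟨π, hπ⟩), rfl⟩
  rw [← e, Nat.card_prod, Nat.card_prod, Nat.card_fun, Nat.card_eq_fintype_card (α := Fin m),
    Fintype.card_fin]

variable [Finite G] [Finite K] [Finite L]

theorem exists_sylow (M : Emb G K L m) (W : Sylow 2 K) (B : Sylow 2 L)
    (P : Sylow 2 (Perm (Fin m)))
    (hG : (Nat.card G).factorization 2 = m * (Nat.card K).factorization 2 +
      (Nat.card L).factorization 2 + (Nat.factorial m).factorization 2) :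
    ∃ S : Sylow 2 G, (S : Subgroup G) = M.sub W B P := by
  haveI := Fact.mk Nat.prime_two
  refine ⟨Sylow.ofCard (M.sub W B P) ?_, Sylow.coe_ofCard _ _⟩
  rw [card_sub, W.card_eq_multiplicity, B.card_eq_multiplicity, P.card_eq_multiplicity,
    Nat.card_perm, Nat.card_eq_fintype_card (α := Fin m), Fintype.card_fin, hG, ← pow_mul, ← pow_add,
    ← pow_add, mul_comm ((Nat.card K).factorization 2) m]

/-- A normal elementary abelian subgroup from central ones. -/
theorem hasNormal (M : Emb G K L m)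
    (hG : (Nat.card G).factorization 2 = m * (Nat.card K).factorization 2 +
      (Nat.card L).factorization 2 + (Nat.factorial m).factorization 2)
    (C : Subgroup K) (hC : ∀ c ∈ C, c ∈ Subgroup.center K ∧ c ^ 2 = 1)
    (C' : Subgroup L) (hC' : ∀ c ∈ C', c ∈ Subgroup.center L ∧ c ^ 2 = 1) :
    HasNormal G (Nat.card C ^ m * Nat.card C') := by
  classical
  haveI := Fact.mk Nat.prime_two
  obtain ⟨P⟩ : Nonempty (Sylow 2 (Perm (Fin m))) := inferInstance
  haveI : C.Normal := ⟨fun c hc x => by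
    rw [Subgroup.mem_center_iff.1 (hC c hc).1 x, mul_assoc, mul_inv_cancel, mul_one]; exact hc⟩
  haveI : C'.Normal := ⟨fun c hc x => by
    rw [Subgroup.mem_center_iff.1 (hC' c hc).1 x, mul_assoc, mul_inv_cancel, mul_one]; exact hc⟩
  have hp : IsPGroup 2 C := fun c => ⟨1, Subtype.ext (hC c c.2).2⟩
  have hp' : IsPGroup 2 C' := fun c => ⟨1, Subtype.ext (hC' c c.2).2⟩
  obtain ⟨W⟩ : Nonempty (Sylow 2 K) := inferInstance
  obtain ⟨B⟩ : Nonempty (Sylow 2 L) := inferInstance
  obtain ⟨S, hS⟩ := M.exists_sylow W B P hG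
  refine hasNormal_of_one S ?_
  set E := M.sub C C' ⊥ with hE
  have hle : E ≤ (S : Subgroup G) := by
    rw [hS]
    rintro _ ⟨x, π, hx, hx', hπ, rfl⟩
    exact ⟨x, π, fun i => CfsgLib.ZJ.normal_le_sylow hp W (hx i),
      CfsgLib.ZJ.normal_le_sylow hp' B hx', Subgroup.mem_bot.1 hπ ▸ one_mem _, rfl⟩
  refine ⟨E.subgroupOf (S : Subgroup G), ⟨?_⟩, ⟨⟨⟨?_⟩⟩, ?_⟩, ?_⟩
  · rintro ⟨_, hy⟩ ⟨x, π, hx, hx', hπ, e⟩ ⟨g, hg⟩
    rw [hS] at hg
    obtain ⟨u, σ, -, -, -, rfl⟩ := hg
    obtain rfl := Subgroup.mem_bot.1 hπ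
    rw [map_one, mul_one, Subgroup.subtype_apply] at e
    refine ⟨shift σ x, 1, fun i => hx _, hx', one_mem _, ?_⟩
    show M.a u * M.p σ * _ * (M.a u * M.p σ)⁻¹ = _
    rw [map_one, mul_one]
    rw [mul_inv_eq_iff_eq_mul]
    have hz : u * shift σ x = shift σ x * u := Prod.ext
      (funext fun i => Subgroup.mem_center_iff.1 (hC _ (hx _)).1 _)
      (Subgroup.mem_center_iff.1 (hC' _ hx').1 _)
    show M.a u * M.p σ * (_ : G) = _
    rw [e]
    calc M.a u * M.p σ * M.a x = M.a u * M.p σ * (M.a x * M.p 1) := by rw [map_one, mul_one]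
      _ = M.a (u * shift σ x) * M.p σ := by rw [M.mul_eq, mul_one]
      _ = _ := by rw [hz, map_mul, mul_assoc]
  · rintro ⟨⟨g₁, h₁⟩, x, π, hx, hx', hπ, e₁⟩ ⟨⟨g₂, h₂⟩, y, σ, hy, hy', hσ, e₂⟩
    obtain rfl := Subgroup.mem_bot.1 hπ
    obtain rfl := Subgroup.mem_bot.1 hσ
    apply Subtype.ext; apply Subtype.ext
    show g₁ * g₂ = g₂ * g₁
    rw [show g₁ = M.a x * M.p 1 from e₁, show g₂ = M.a y * M.p 1 from e₂]
    simp only [map_one, mul_one, ← map_mul]
    congr 1
    exact Prod.ext (funext fun i => Subgroup.mem_center_iff.1 (hC _ (hy i)).1 _)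
      (Subgroup.mem_center_iff.1 (hC' _ hy').1 _)
  · rintro ⟨g₁, h₁⟩ ⟨x, π, hx, hx', hπ, e⟩
    obtain rfl := Subgroup.mem_bot.1 hπ
    apply Subtype.ext
    show g₁ ^ 2 = 1
    rw [map_one, mul_one] at e
    rw [show g₁ = M.a x from e, ← map_pow]
    rw [show x ^ 2 = 1 from Prod.ext (funext fun i => (hC _ (hx i)).2) (hC' _ hx').2, map_one]
  · rw [Nat.card_congr (Subgroup.subgroupOfEquivOfLe hle).toEquiv, hE, card_sub, Subgroup.card_bot,
      mul_one]

/-- The bound when the base factor is non-abelian. -/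
theorem allLe (M : Emb G K L m)
    (hG : (Nat.card G).factorization 2 = m * (Nat.card K).factorization 2 +
      (Nat.card L).factorization 2 + (Nat.factorial m).factorization 2)
    (C : Subgroup K) (W : Sylow 2 K) (hW : ∃ u ∈ (W : Subgroup K), ∃ v ∈ (W : Subgroup K), u * v ≠ v * u)
    (hWC : ∀ E : Subgroup (W : Subgroup K), E.Normal → Cfsg.IsElementaryAbelian 2 E →
      ∀ e ∈ E, (e : K) ∈ C) :
    AllLe G (Nat.card C ^ m * 2 ^ (Nat.card L).factorization 2) := by
  classical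
  haveI := Fact.mk Nat.prime_two
  obtain ⟨P⟩ : Nonempty (Sylow 2 (Perm (Fin m))) := inferInstance
  obtain ⟨B⟩ : Nonempty (Sylow 2 L) := inferInstance
  obtain ⟨S, hS⟩ := M.exists_sylow W B P hG
  refine allLe_of_one S fun E hn he => ?_
  obtain ⟨u, hu, v, hv, huv⟩ := hW
  -- the base element supported on one block
  have hbase : ∀ i, ∀ w ∈ (W : Subgroup K), M.a (Pi.mulSingle i w, 1) ∈ (S : Subgroup G) := by
    intro i w hw
    rw [hS]
    refine ⟨(Pi.mulSingle i w, 1), 1, fun j => ?_, one_mem _, one_mem _, by simp⟩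
    show (Pi.mulSingle i w : Fin m → K) j ∈ _
    rcases eq_or_ne j i with rfl | h
    · rwa [Pi.mulSingle_eq_same]
    · rw [Pi.mulSingle_eq_of_ne h]; exact one_mem _
  have hdec : ∀ e ∈ E, ∃ x : (Fin m → K) × L, (∀ i, x.1 i ∈ (W : Subgroup K)) ∧
      x.2 ∈ (B : Subgroup L) ∧ ((e : (S : Subgroup G)) : G) = M.a x := by
    intro e hee
    obtain ⟨x, π, hx, hx', hπ, heq⟩ := (show ((e : G) ∈ M.sub W B P) from hS ▸ e.2)
    suffices hπ1 : π = 1 by exact ⟨x, hx, hx', by rw [heq, hπ1, map_one, mul_one]⟩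
    by_contra hne
    obtain ⟨i, hi⟩ : ∃ i, π i ≠ i := not_forall.1 fun h => hne (Equiv.ext h)
    have hc : ∀ w, ∀ hw : w ∈ (W : Subgroup K),
        ∃ c ∈ E, ∃ y : (Fin m → K) × L, y.1 i = w⁻¹ ∧ ((c : (S : Subgroup G)) : G) = M.a y := by
      intro w hw
      let b : (S : Subgroup G) := ⟨_, hbase i w hw⟩
      refine ⟨e * (b * e⁻¹ * b⁻¹), mul_mem hee (hn.conj_mem _ (inv_mem hee) b),
        x * shift π (Pi.mulSingle i w, 1) * x⁻¹ * (Pi.mulSingle i w, 1)⁻¹, ?_, ?_⟩
      · show x.1 i * (Pi.mulSingle i w : Fin m → K) (π⁻¹ i) * (x.1 i)⁻¹ *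
          ((Pi.mulSingle i w : Fin m → K) i)⁻¹ = w⁻¹
        rw [Pi.mulSingle_eq_same, Pi.mulSingle_eq_of_ne (fun h => hi (by
          conv_lhs => rw [← h]
          simp)), mul_one, mul_inv_cancel, one_mul]
      · show (e : G) * (M.a _ * (e : G)⁻¹ * (M.a _)⁻¹) = _
        rw [heq, map_mul, map_mul, map_mul, map_inv, map_inv]
        have h1 : M.p π * M.a (Pi.mulSingle i w, 1) = M.a (shift π (Pi.mulSingle i w, 1)) * M.p π :=
          M.compat π _ _
        calc M.a x * M.p π * (M.a (Pi.mulSingle i w, 1) * (M.a x * M.p π)⁻¹ *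
              (M.a (Pi.mulSingle i w, 1))⁻¹)
            = M.a x * (M.p π * M.a (Pi.mulSingle i w, 1)) * (M.p π)⁻¹ * (M.a x)⁻¹ *
              (M.a (Pi.mulSingle i w, 1))⁻¹ := by group
          _ = _ := by rw [h1]; group
    obtain ⟨c, hc1, y, hy, hcy⟩ := hc u hu
    obtain ⟨c', hc1', y', hy', hcy'⟩ := hc v hv
    have hcomm : (c : G) * c' = c' * c :=
      congrArg (fun z : E => ((z : (S : Subgroup G)) : G)) (he.1.is_comm.comm ⟨c, hc1⟩ ⟨c', hc1'⟩)
    rw [hcy, hcy', ← map_mul, ← map_mul] at hcomm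
    have h0 : M.a (y * y') * M.p 1 = M.a (y' * y) * M.p 1 := by rw [hcomm]
    have h2 := congrFun (congrArg Prod.fst (M.eq_iff h0).1) i
    simp only [Prod.fst_mul, Pi.mul_apply, hy, hy'] at h2
    exact huv (by rw [← _root_.mul_inv_rev, ← _root_.mul_inv_rev, inv_inj] at h2; exact h2.symm)
  choose X hX hX' hXe using hdec
  have hXu : ∀ e, ∀ he' : e ∈ E, ∀ y, ((e : (S : Subgroup G)) : G) = M.a y → X e he' = y :=
    fun e he' y h => (M.eq_iff (show M.a _ * M.p 1 = M.a y * M.p 1 by rw [← hXe, h])).1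
  -- the projection to each block
  have hproj : ∀ e, ∀ he' : e ∈ E, ∀ i, (X e he').1 i ∈ C := by
    intro e he' i
    let φ : Subgroup (W : Subgroup K) :=
      { carrier := {w | ∃ e, ∃ he' : e ∈ E, (X e he').1 i = w}
        mul_mem' := by
          rintro w w' ⟨e, he', h⟩ ⟨e', he'', h'⟩
          refine ⟨e * e', mul_mem he' he'', ?_⟩
          rw [hXu _ _ (X e he' * X e' he'') (by
            rw [map_mul, ← hXe, ← hXe, Subgroup.coe_mul])]
          show (X e he').1 i * (X e' he'').1 i = _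
          rw [h, h']; rfl
        one_mem' := by
          refine ⟨1, one_mem _, ?_⟩
          rw [hXu _ _ 1 (by rw [map_one, OneMemClass.coe_one])]
          rfl
        inv_mem' := by
          rintro w ⟨e, he', h⟩
          refine ⟨e⁻¹, inv_mem he', ?_⟩
          rw [hXu _ _ (X e he')⁻¹ (by rw [map_inv, ← hXe, Subgroup.coe_inv])]
          show ((X e he').1 i)⁻¹ = _
          rw [h]; rfl }
    refine hWC φ ⟨?_⟩ ⟨⟨⟨?_⟩⟩, ?_⟩ ⟨_, hX e he' i⟩ ⟨e, he', rfl⟩
    · rintro w ⟨e, he', h⟩ z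
      let b : (S : Subgroup G) := ⟨_, hbase i z z.2⟩
      refine ⟨b * e * b⁻¹, hn.conj_mem _ he' b, ?_⟩
      rw [hXu _ _ ((Pi.mulSingle i (z : K), 1) * X e he' * (Pi.mulSingle i (z : K), 1)⁻¹) (by
        rw [map_mul, map_mul, map_inv, ← hXe, Subgroup.coe_mul, Subgroup.coe_mul, Subgroup.coe_inv])]
      show (Pi.mulSingle i (z : K) : Fin m → K) i * (X e he').1 i *
        ((Pi.mulSingle i (z : K) : Fin m → K) i)⁻¹ = _
      rw [Pi.mulSingle_eq_same, h]; rfl
    · rintro ⟨w, e, he', h⟩ ⟨w', e', he'', h'⟩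
      apply Subtype.ext; apply Subtype.ext
      show (w : K) * w' = w' * w
      rw [← h, ← h']
      have h1 : (e : G) * e' = e' * e := congrArg (fun z : E => ((z : (S : Subgroup G)) : G))
        (he.1.is_comm.comm ⟨e, he'⟩ ⟨e', he''⟩)
      rw [hXe e he', hXe e' he'', ← map_mul, ← map_mul] at h1
      have h0 : M.a (X e he' * X e' he'') * M.p 1 = M.a (X e' he'' * X e he') * M.p 1 := by rw [h1]
      exact congrFun (congrArg Prod.fst (M.eq_iff h0).1) i
    · rintro w ⟨e, he', h⟩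
      apply Subtype.ext
      show (w : K) ^ 2 = 1
      rw [← h]
      have h1 : (e : G) ^ 2 = 1 := congrArg Subtype.val (he.2 e he')
      rw [hXe e he', ← map_pow] at h1
      have h0 : M.a (X e he' ^ 2) * M.p 1 = M.a 1 * M.p 1 := by rw [h1, map_one M.a]
      exact congrFun (congrArg Prod.fst (M.eq_iff h0).1) i
  have hcard : Nat.card E ≤ Nat.card ((Fin m → C) × (B : Subgroup L)) := by
    refine Nat.card_le_card_of_injective
      (fun e => (fun i => ⟨_, hproj e.1 e.2 i⟩, ⟨_, hX' e.1 e.2⟩)) fun e e' h => ?_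
    simp only [Prod.ext_iff, funext_iff, Subtype.ext_iff] at h
    have : X e.1 e.2 = X e'.1 e'.2 := Prod.ext (funext h.1) h.2
    apply Subtype.ext; apply Subtype.ext
    rw [hXe e.1 e.2, hXe e'.1 e'.2, this]
  rwa [Nat.card_prod, Nat.card_fun, Nat.card_eq_fintype_card (α := Fin m), Fintype.card_fin,
    B.card_eq_multiplicity] at hcard

end Emb

end CfsgLib.NormalRank
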