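import Mathlib

set_option autoImplicit false

/-!
Permutation matrices.
-/

namespace CfsgLib.NormalRank

open Matrix Equiv

variable {F : Type*} [Field F] {ι : Type*} [Fintype ι] [DecidableEq ι]

/-- The matrix of a permutation of the basis. -/
def pm (σ : Perm ι) : Matrix ι ι F := Matrix.of fun i j => if i = σ j then 1 else 0

theorem pm_apply (σ : Perm ι) (i j : ι) : (pm σ : Matrix ι ι F) i j = if i = σ j then 1 else 0 := rfl

theorem pm_one : (pm (1 : Perm ι) : Matrix ι ι F) = 1 := by
  ext i j
  simp only [pm_apply, Matrix.one_apply, Equiv.Perm.one_apply]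
  split_ifs <;> simp_all

theorem pm_mul (σ τ : Perm ι) : (pm σ * pm τ : Matrix ι ι F) = pm (σ * τ) := by
  ext i k
  rw [Matrix.mul_apply, Finset.sum_eq_single (τ k)]
  · simp only [pm_apply, if_pos, mul_one, Equiv.Perm.mul_apply]
    split_ifs <;> simp_all
  · intro j _ hj; simp [pm, hj]
  · intro h; exact absurd (Finset.mem_univ _) h

theorem pm_comm (σ : Perm ι) {B B' : Matrix ι ι F} (h : ∀ a b, B' (σ a) (σ b) = B a b) :
    pm σ * B = B' * pm σ := by
  ext i j
  obtain ⟨a, rfl⟩ := σ.surjective i
  rw [Matrix.mul_apply, Matrix.mul_apply, Finset.sum_eq_single a, Finset.sum_eq_single (σ j)]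
  · simp [pm, h]
  · intro k _ hk; simp [pm, hk]
  · intro hk; exact absurd (Finset.mem_univ _) hk
  · intro k _ hk; simp [pm, Ne.symm hk]
  · intro hk; exact absurd (Finset.mem_univ _) hk

end CfsgLib.NormalRank
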