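import Mathlib

set_option autoImplicit false
set_option linter.unusedSectionVars false

/-!
A set of commuting involutory linear maps is small.
-/

namespace CfsgLib.NormalRank

open Module

variable {F V : Type*} [Field F] [AddCommGroup V] [Module F V] [FiniteDimensional F V]

/-- The number of distinct restrictions to a subspace. -/
noncomputable def rest (s : Set (End F V)) (W : Submodule F V) : ℕ :=
  Nat.card (Set.range fun e : s => fun w : W => (e : End F V) w)

theorem rest_pow_le (h2 : (2 : F) ≠ 0) (s : Set (End F V)) (hfin : s.Finite)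
    (hinv : ∀ e ∈ s, ∀ v, e (e v) = v) (hcomm : ∀ e ∈ s, ∀ f ∈ s, ∀ v, e (f v) = f (e v))
    (Good : Submodule F V → Prop) (k : ℕ)
    (hsplit : ∀ e ∈ s, ∀ W, Good W → (∀ w ∈ W, e w ∈ W) →
      Good (W ⊓ End.eigenspace e 1) ∧ Good (W ⊓ End.eigenspace e (-1)))
    (hbase : ∀ W, Good W → W ≠ ⊥ → k ≤ finrank F W) :
    ∀ W, Good W → (∀ e ∈ s, ∀ w ∈ W, e w ∈ W) → rest s W ^ k ≤ 2 ^ finrank F W := by
  intro W
  induction hd : finrank F W using Nat.strong_induction_on generalizing W with
  | _ d ih =>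
  intro hW hWs
  haveI := hfin.to_subtype
  by_cases hns : ∃ e ∈ s, (∃ w ∈ W, e w ≠ w) ∧ ∃ w ∈ W, e w ≠ -w
  · obtain ⟨e, he, ⟨w₁, hw₁, hne₁⟩, w₂, hw₂, hne₂⟩ := hns
    set P := W ⊓ End.eigenspace e 1
    set N := W ⊓ End.eigenspace e (-1)
    have hPlt : P < W := lt_of_le_of_ne inf_le_left fun h => hne₁ (by
      have := (h.ge hw₁).2
      rwa [SetLike.mem_coe, End.mem_eigenspace_iff, one_smul] at this)
    have hNlt : N < W := lt_of_le_of_ne inf_le_left fun h => hne₂ (by
      have := (h.ge hw₂).2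
      rwa [SetLike.mem_coe, End.mem_eigenspace_iff, neg_one_smul] at this)
    have hdP := Submodule.finrank_lt_finrank_of_lt hPlt
    have hdN := Submodule.finrank_lt_finrank_of_lt hNlt
    obtain ⟨gP, gN⟩ := hsplit e he W hW (hWs e he)
    have hPs : ∀ (a : F), ∀ f ∈ s, ∀ w ∈ W ⊓ End.eigenspace e a, f w ∈ W ⊓ End.eigenspace e a := by
      intro a f hf w hw
      refine ⟨hWs f hf w hw.1, End.mem_eigenspace_iff.2 ?_⟩
      rw [hcomm e he f hf, End.mem_eigenspace_iff.1 hw.2, map_smul]
    have iP := ih _ (hd ▸ hdP) P rfl gP (hPs 1)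
    have iN := ih _ (hd ▸ hdN) N rfl gN (hPs (-1))
    have hadd : finrank F P + finrank F N ≤ d := by
      have hdisj : P ⊓ N = ⊥ := by
        refine (Submodule.eq_bot_iff _).2 fun w hw => ?_
        have h1 := End.mem_eigenspace_iff.1 hw.1.2
        have h3 := End.mem_eigenspace_iff.1 hw.2.2
        rw [h1, ← sub_eq_zero, ← sub_smul, smul_eq_zero] at h3
        exact h3.resolve_left (by rw [sub_neg_eq_add, one_add_one_eq_two]; exact h2)
      have := Submodule.finrank_sup_add_finrank_inf_eq P N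
      rw [hdisj, finrank_bot, add_zero] at this
      rw [← this, ← hd]
      exact Submodule.finrank_mono (sup_le inf_le_left inf_le_left)
    have hmul : rest s W ≤ rest s P * rest s N := by
      rw [rest, rest, rest, ← Nat.card_prod]
      refine Nat.card_le_card_of_injective (fun f => (⟨fun w => f.1 ⟨w.1, w.2.1⟩, ?_⟩,
        ⟨fun w => f.1 ⟨w.1, w.2.1⟩, ?_⟩)) ?_
      · obtain ⟨g, hg⟩ := f.2
        exact ⟨g, funext fun w => by rw [← hg]⟩
      · obtain ⟨g, hg⟩ := f.2
        exact ⟨g, funext fun w => by rw [← hg]⟩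
      · rintro ⟨_, g, rfl⟩ ⟨_, g', rfl⟩ h
        simp only [Prod.ext_iff, Subtype.mk.injEq] at h
        refine Subtype.ext (funext fun w => ?_)
        have hp : (w : V) + e w ∈ P := ⟨W.add_mem w.2 (hWs e he _ w.2), End.mem_eigenspace_iff.2 (by
          rw [map_add, hinv e he, one_smul, add_comm])⟩
        have hn : (w : V) - e w ∈ N := ⟨W.sub_mem w.2 (hWs e he _ w.2), End.mem_eigenspace_iff.2 (by
          rw [map_sub, hinv e he, neg_one_smul, neg_sub])⟩
        have a1 : (g : End F V) ((w : V) + e w) = (g' : End F V) ((w : V) + e w) :=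
          congrFun h.1 ⟨_, hp⟩
        have a2 : (g : End F V) ((w : V) - e w) = (g' : End F V) ((w : V) - e w) :=
          congrFun h.2 ⟨_, hn⟩
        have a3 : (g : End F V) ((2 : F) • (w : V)) = (g' : End F V) ((2 : F) • (w : V)) := by
          rw [show (2 : F) • (w : V) = ((w : V) + e w) + ((w : V) - e w) by rw [two_smul]; abel,
            map_add, map_add _ _ ((w : V) - e w), a1, a2]
        rw [map_smul, map_smul] at a3
        exact smul_right_injective V h2 a3
    calc rest s W ^ k ≤ (rest s P * rest s N) ^ k := Nat.pow_le_pow_left hmul k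
      _ = rest s P ^ k * rest s N ^ k := mul_pow _ _ _
      _ ≤ 2 ^ finrank F P * 2 ^ finrank F N := Nat.mul_le_mul iP iN
      _ ≤ 2 ^ d := by rw [← pow_add]; exact Nat.pow_le_pow_right two_pos hadd
  push_neg at hns
  rcases eq_or_ne W ⊥ with h0 | h0
  · have hle : rest s W ≤ 1 := by
      refine Finite.card_le_one_iff_subsingleton.2 ⟨?_⟩
      rintro ⟨_, g, rfl⟩ ⟨_, g', rfl⟩
      refine Subtype.ext (funext fun w => ?_)
      have hw : (w : V) = 0 := (Submodule.eq_bot_iff _).1 h0 _ w.2
      show (g : End F V) w = (g' : End F V) w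
      rw [hw, map_zero, map_zero]
    exact (Nat.pow_le_pow_left hle k).trans (by rw [one_pow]; exact Nat.one_le_two_pow)
  · have hle : rest s W ≤ 2 := by
      have hsub : (Set.range fun e : s => fun w : W => (e : End F V) w) ⊆
          {fun w : W => (w : V), fun w : W => -(w : V)} := by
        rintro _ ⟨⟨e, he⟩, rfl⟩
        by_cases h : ∀ w ∈ W, e w = w
        · exact Or.inl (funext fun w => h w w.2)
        · push_neg at h
          exact Or.inr (funext fun w => hns e he h w w.2)
      have hf : ({fun w : W => (w : V), fun w : W => -(w : V)} : Set (W → V)).Finite := by simp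
      haveI := hf.to_subtype
      refine le_trans (Nat.card_mono hf hsub) ?_
      refine (Set.ncard_insert_le _ _).trans ?_
      rw [Set.ncard_singleton]
    exact (Nat.pow_le_pow_left hle k).trans (Nat.pow_le_pow_right two_pos (hd ▸ hbase W hW h0))

/-- The count of the maps themselves. -/
theorem card_pow_le (h2 : (2 : F) ≠ 0) (s : Set (End F V)) (hfin : s.Finite)
    (hinv : ∀ e ∈ s, ∀ v, e (e v) = v) (hcomm : ∀ e ∈ s, ∀ f ∈ s, ∀ v, e (f v) = f (e v))
    (Good : Submodule F V → Prop) (k : ℕ)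
    (hsplit : ∀ e ∈ s, ∀ W, Good W → (∀ w ∈ W, e w ∈ W) →
      Good (W ⊓ End.eigenspace e 1) ∧ Good (W ⊓ End.eigenspace e (-1)))
    (hbase : ∀ W, Good W → W ≠ ⊥ → k ≤ finrank F W) (htop : Good ⊤) :
    Nat.card s ^ k ≤ 2 ^ finrank F V := by
  have h := rest_pow_le h2 s hfin hinv hcomm Good k hsplit hbase ⊤ htop
    (fun _ _ _ _ => Submodule.mem_top)
  rw [finrank_top] at h
  refine le_trans (Nat.pow_le_pow_left ?_ k) h
  haveI := hfin.to_subtype
  exact Nat.card_le_card_of_injective (fun e => ⟨_, e, rfl⟩) fun e e' he => Subtype.ext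
    (LinearMap.ext fun v => congrFun (congrArg Subtype.val he) ⟨v, Submodule.mem_top⟩)

end CfsgLib.NormalRank
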