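import Mathlib
import Cfsg.Agent.Lib.Classical.SympOrder
import Cfsg.Agent.Lib.Classical.Card

set_option autoImplicit false

/-!
Two-parts of the orders of linear and symplectic groups in odd characteristic.
-/

namespace CfsgLib.NormalRank

open Finset

/-- The exponent of two. -/
abbrev v2 (x : ℕ) : ℕ := x.factorization 2

theorem v2_mul {a b : ℕ} (ha : a ≠ 0) (hb : b ≠ 0) : v2 (a * b) = v2 a + v2 b := by
  show (a * b).factorization 2 = _
  rw [Nat.factorization_mul ha hb]; rfl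

theorem v2_odd {a : ℕ} (ha : ¬ 2 ∣ a) : v2 a = 0 := Nat.factorization_eq_zero_of_not_dvd ha

theorem v2_two : v2 2 = 1 := Nat.Prime.factorization_self Nat.prime_two

theorem v2_two_mod_four {a : ℕ} (ha : a % 4 = 2) : v2 a = 1 := by
  obtain ⟨b, rfl⟩ : 2 ∣ a := by omega
  rw [v2_mul (by norm_num) (by omega), v2_two, v2_odd (by omega)]

theorem pow_mod_four {x : ℕ} (hx : x % 4 = 1) (j : ℕ) : x ^ j % 4 = 1 := by
  rw [Nat.pow_mod, hx, one_pow]
  norm_num

/-- Lifting the exponent. -/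
theorem v2_pow_sub_one {x : ℕ} (hx : x % 4 = 1) (hx1 : 1 < x) {j : ℕ} (hj : j ≠ 0) :
    v2 (x ^ j - 1) = v2 (x - 1) + v2 j := by
  induction j using Nat.strong_induction_on generalizing x with
  | _ j ih =>
  have hg := geom_sum_mul_of_one_le (show 1 ≤ x by omega) j
  rcases Nat.even_or_odd j with ⟨i, rfl⟩ | hodd
  · have hi : i ≠ 0 := by omega
    have hxi : 1 < x ^ i := Nat.one_lt_pow hi hx1
    have e : x ^ (i + i) - 1 = (x ^ i + 1) * (x ^ i - 1) := by
      rw [pow_add]; exact Nat.mul_self_sub_mul_self_eq (x ^ i) 1 ▸ by rw [mul_one]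
    rw [e, v2_mul (by omega) (by omega), ih i (by omega) hx hx1 hi,
      v2_two_mod_four (by have := pow_mod_four hx i; omega), ← two_mul, v2_mul (by norm_num) hi,
      v2_two]
    omega
  · have hs : ¬ 2 ∣ ∑ l ∈ range j, x ^ l := by
      rw [Nat.dvd_iff_mod_eq_zero, Finset.sum_nat_mod]
      have : ∀ l ∈ range j, x ^ l % 2 = 1 := fun l _ => by have := pow_mod_four hx l; omega
      rw [Finset.sum_congr rfl this, Finset.sum_const, Finset.card_range, smul_eq_mul, mul_one]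
      rcases hodd with ⟨i, rfl⟩
      omega
    rw [← hg, v2_mul (fun e => hs (by rw [e]; exact dvd_zero 2)) (by omega), v2_odd hs, zero_add,
      v2_odd (a := j) (by rcases hodd with ⟨i, rfl⟩; omega), add_zero]

theorem sq_mod_four {q : ℕ} (hq : Odd q) : q ^ 2 % 4 = 1 := by
  rw [Nat.pow_mod]
  rcases hq with ⟨i, rfl⟩
  have : (2 * i + 1) % 4 = 1 ∨ (2 * i + 1) % 4 = 3 := by omega
  rcases this with h | h <;> rw [h]

theorem v2_sq_pow_sub_one {q : ℕ} (hq : Odd q) (hq1 : 1 < q) {j : ℕ} (hj : j ≠ 0) :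
    v2 (q ^ (2 * j) - 1) = v2 (q ^ 2 - 1) + v2 j := by
  rw [pow_mul]
  exact v2_pow_sub_one (sq_mod_four hq) (Nat.one_lt_pow two_ne_zero hq1) hj

theorem sum_v2 (m : ℕ) : ∑ i ∈ range m, v2 (i + 1) = v2 m.factorial := by
  induction m with
  | zero => simp [v2]
  | succ m ih =>
    rw [Finset.sum_range_succ, ih, Nat.factorial_succ, v2_mul (by omega) (Nat.factorial_ne_zero m)]
    omega

variable {F : Type*} [Field F] [Fintype F]

theorem v2_card_GL {q : ℕ} (hF : Fintype.card F = q) (hq : Odd q) (n : ℕ) :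
    v2 (Nat.card (Matrix.GeneralLinearGroup (Fin n) F)) = ∑ j ∈ range n, v2 (q ^ (j + 1) - 1) := by
  have hq1 : 1 < q := hF ▸ Fintype.one_lt_card
  have hqo : ¬ 2 ∣ q := by rcases hq with ⟨i, rfl⟩; omega
  rw [CfsgLib.Classical.card_GL_fin, hF, Fin.prod_univ_eq_prod_range (fun i => q ^ n - q ^ i) n]
  have h1 : ∀ i ∈ range n, q ^ n - q ^ i = q ^ i * (q ^ (n - i) - 1) := fun i hi => by
    rw [Nat.mul_sub, mul_one, ← pow_add, Nat.add_sub_cancel' (Finset.mem_range.1 hi).le]
  have hne : ∀ i ∈ range n, q ^ (n - i) - 1 ≠ 0 := fun i hi => by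
    have := Nat.one_lt_pow (n := n - i) (by have := Finset.mem_range.1 hi; omega) hq1
    omega
  rw [Finset.prod_congr rfl h1, v2, Nat.factorization_prod fun i hi =>
    Nat.mul_ne_zero (pow_ne_zero _ (by omega)) (hne i hi), Finsupp.finsetSum_apply,
    ← Finset.sum_range_reflect (fun j => v2 (q ^ (j + 1) - 1)) n]
  refine Finset.sum_congr rfl fun i hi => ?_
  have := Finset.mem_range.1 hi
  show v2 (q ^ i * _) = _
  rw [v2_mul (pow_ne_zero _ (by omega)) (hne i hi),
    v2_odd fun h => hqo (Nat.prime_two.dvd_of_dvd_pow h), zero_add, show n - 1 - i + 1 = n - i by omega]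

theorem v2_card_GL_one {q : ℕ} (hF : Fintype.card F = q) (hq : Odd q) :
    v2 (Nat.card (Matrix.GeneralLinearGroup (Fin 1) F)) = v2 (q - 1) := by
  rw [v2_card_GL hF hq, Finset.sum_range_one, pow_one]

theorem v2_card_GL_one_mod_four {q : ℕ} (hF : Fintype.card F = q) (hq : Odd q) (h4 : q % 4 = 1)
    (n : ℕ) : v2 (Nat.card (Matrix.GeneralLinearGroup (Fin n) F)) =
      n * v2 (Nat.card (Matrix.GeneralLinearGroup (Fin 1) F)) + v2 n.factorial := by
  have hq1 : 1 < q := hF ▸ Fintype.one_lt_card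
  rw [v2_card_GL hF hq, v2_card_GL_one hF hq, ← sum_v2,
    Finset.sum_congr rfl fun j _ => v2_pow_sub_one h4 hq1 (Nat.succ_ne_zero j),
    Finset.sum_add_distrib, Finset.sum_const, Finset.card_range, smul_eq_mul]

theorem v2_card_GL_three_mod_four {q : ℕ} (hF : Fintype.card F = q) (hq : Odd q) (h4 : q % 4 = 3)
    (m r : ℕ) (hr : r ≤ 1) : v2 (Nat.card (Matrix.GeneralLinearGroup (Fin (2 * m + r)) F)) =
      m * v2 (Nat.card (Matrix.GeneralLinearGroup (Fin 2) F)) +
        v2 (Nat.card (Matrix.GeneralLinearGroup (Fin r) F)) + v2 m.factorial := by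
  have hq1 : 1 < q := hF ▸ Fintype.one_lt_card
  have hodd : ∀ i, v2 (q ^ (2 * i + 1) - 1) = 1 := fun i => by
    apply v2_two_mod_four
    have h : q ^ (2 * i + 1) % 4 = 3 := by
      rw [pow_succ, pow_mul, Nat.mul_mod, pow_mod_four (sq_mod_four hq), h4]
    omega
  have heven : ∀ i, v2 (q ^ (2 * i + 1 + 1) - 1) = v2 (q ^ 2 - 1) + v2 (i + 1) := fun i => by
    rw [show 2 * i + 1 + 1 = 2 * (i + 1) by ring, v2_sq_pow_sub_one hq hq1 (Nat.succ_ne_zero i)]
  have h2m : ∑ j ∈ range (2 * m), v2 (q ^ (j + 1) - 1) = m * (v2 (q ^ 2 - 1) + 1) + v2 m.factorial := by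
    clear hr
    induction m with
    | zero => simp [v2]
    | succ m ih =>
      rw [show 2 * (m + 1) = 2 * m + 1 + 1 by ring, Finset.sum_range_succ, Finset.sum_range_succ, ih,
        hodd m, heven m, Nat.factorial_succ, v2_mul (by omega) (Nat.factorial_ne_zero m)]
      ring
  rw [v2_card_GL hF hq, v2_card_GL hF hq, v2_card_GL hF hq]
  have h10 : v2 (q ^ (0 + 1) - 1) = 1 := hodd 0
  rcases (show r = 0 ∨ r = 1 by omega) with rfl | rfl
  · rw [add_zero, h2m, Finset.sum_range_succ, Finset.sum_range_one, Finset.sum_range_zero, h10]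
    show _ = m * (1 + v2 (q ^ 2 - 1)) + 0 + v2 m.factorial
    ring
  · rw [Finset.sum_range_succ, h2m, hodd m, Finset.sum_range_succ, Finset.sum_range_one, h10]
    show _ = m * (1 + v2 (q ^ 2 - 1)) + 1 + v2 m.factorial
    ring

theorem v2_card_Sp {q : ℕ} (hF : Fintype.card F = q) (hq : Odd q) (n : ℕ) :
    v2 (Nat.card (Matrix.symplecticGroup (Fin n) F)) =
      n * v2 (Nat.card (Matrix.SpecialLinearGroup (Fin 2) F)) + v2 n.factorial := by
  have hq1 : 1 < q := hF ▸ Fintype.one_lt_card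
  have hqo : ¬ 2 ∣ q := by rcases hq with ⟨i, rfl⟩; omega
  have hne : ∀ i ∈ range n, q ^ (2 * (i + 1)) - 1 ≠ 0 := fun i _ => by
    have := Nat.one_lt_pow (n := 2 * (i + 1)) (by omega) hq1
    omega
  have hSL : v2 (Nat.card (Matrix.SpecialLinearGroup (Fin 2) F)) = v2 (q ^ 2 - 1) := by
    rw [CfsgLib.Classical.card_SL_two, hF, v2_mul (by omega) (by
      have := Nat.one_lt_pow (n := 2) two_ne_zero hq1; omega), v2_odd hqo, zero_add]
  rw [hSL, CfsgLib.Classical.SympTrans.card_symplectic, Nat.card_eq_fintype_card (α := F), hF,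
    v2_mul (pow_ne_zero _ (by omega)) (Finset.prod_ne_zero_iff.2 hne),
    v2_odd fun h => hqo (Nat.prime_two.dvd_of_dvd_pow h), zero_add, v2, Nat.factorization_prod hne,
    Finsupp.finsetSum_apply, ← sum_v2]
  show ∑ i ∈ range n, v2 (q ^ (2 * (i + 1)) - 1) = _
  rw [Finset.sum_congr rfl fun j _ => v2_sq_pow_sub_one hq hq1 (Nat.succ_ne_zero j),
    Finset.sum_add_distrib, Finset.sum_const, Finset.card_range, smul_eq_mul]

end CfsgLib.NormalRank
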