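import Mathlib
import Cfsg.Agent.Lib.Classical.NormalRank.Abstract
import Cfsg.Agent.Lib.Classical.NormalRank.Split
import Cfsg.Agent.Lib.Classical.NormalRank.Val
import Cfsg.Agent.Lib.Classical.NormalRank.Perm

set_option autoImplicit false
set_option linter.unusedSectionVars false

/-!
Normal 2-rank of Sylow 2-subgroups of general linear groups in odd characteristic.
-/

namespace CfsgLib.NormalRank

open Matrix Equiv Module

variable {F : Type*} [Field F]

/-- `d`-blocks and a remainder. -/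
abbrev Idx (d m r : ℕ) : Type := (Fin d × Fin m) ⊕ Fin r

/-- The base of the wreath product. -/
def baseMat (d m r : ℕ) : (Fin m → GL (Fin d) F) × GL (Fin r) F →* Matrix (Idx d m r) (Idx d m r) F where
  toFun x := fromBlocks (blockDiagonal fun i => (x.1 i : Matrix (Fin d) (Fin d) F)) 0 0
    (x.2 : Matrix (Fin r) (Fin r) F)
  map_one' := by
    rw [← fromBlocks_one, ← blockDiagonal_one]
    rfl
  map_mul' x y := by
    rw [fromBlocks_multiply]
    simp only [Matrix.zero_mul, Matrix.mul_zero, add_zero, zero_add, ← blockDiagonal_mul]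
    rfl

/-- Permuting the blocks. -/
def blockPerm (d : ℕ) {m : ℕ} (r : ℕ) : Perm (Fin m) →* Perm (Idx d m r) where
  toFun π := Equiv.sumCongr (Equiv.prodCongr (Equiv.refl _) π) (Equiv.refl _)
  map_one' := by ext (⟨a, i⟩ | j) <;> simp
  map_mul' π σ := by ext (⟨a, i⟩ | j) <;> simp

/-- Permuting the blocks, as matrices. -/
def topMat (d : ℕ) {m : ℕ} (r : ℕ) : Perm (Fin m) →* Matrix (Idx d m r) (Idx d m r) F where
  toFun π := pm (blockPerm d r π)
  map_one' := by rw [map_one, pm_one]
  map_mul' π σ := by rw [pm_mul, map_mul]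

/-- The wreath product in the linear group. -/
def glEmb {d : ℕ} (hd : 0 < d) (m r : ℕ) :
    Emb (GL (Idx d m r) F) (GL (Fin d) F) (GL (Fin r) F) m where
  a := (baseMat d m r).toHomUnits
  p := (topMat d r).toHomUnits
  compat π f l := by
    apply Units.ext
    refine pm_comm _ ?_
    rintro (⟨a, i⟩ | a) (⟨b, j⟩ | b)
    · show (fromBlocks _ _ _ _ : Matrix (Idx d m r) (Idx d m r) F) (Sum.inl (a, π i)) (Sum.inl (b, π j)) =
        (fromBlocks _ _ _ _ : Matrix (Idx d m r) (Idx d m r) F) (Sum.inl (a, i)) (Sum.inl (b, j))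
      simp [blockDiagonal_apply, Perm.inv_def]
    all_goals rfl
  inj x π h := by
    have h' : baseMat d m r x = pm (blockPerm d r π) := congrArg Units.val h
    have hπ : π = 1 := by
      by_contra hne
      obtain ⟨i, hi⟩ : ∃ i, π i ≠ i := not_forall.1 fun e => hne (Equiv.ext e)
      have e := congrFun (congrFun h' (Sum.inl (⟨0, hd⟩, π i))) (Sum.inl (⟨0, hd⟩, i))
      simp [baseMat, blockDiagonal_apply, hi, pm_apply, blockPerm] at e
    refine ⟨?_, hπ⟩
    subst hπ
    rw [map_one, pm_one] at h'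
    refine Prod.ext (funext fun i => Units.ext (Matrix.ext fun a b => ?_)) (Units.ext (Matrix.ext fun a b => ?_))
    · have e := congrFun (congrFun h' (Sum.inl (a, i))) (Sum.inl (b, i))
      simpa [baseMat, blockDiagonal_apply, Matrix.one_apply] using e
    · have e := congrFun (congrFun h' (Sum.inr a)) (Sum.inr b)
      simpa [baseMat, Matrix.one_apply] using e

/-- Change of index set. -/
def glReindex {ι κ : Type*} [Fintype ι] [DecidableEq ι] [Fintype κ] [DecidableEq κ] (e : ι ≃ κ) :
    GL ι F ≃* GL κ F :=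
  Units.mapEquiv (Matrix.reindexAlgEquiv F F e).toMulEquiv

variable [Fintype F]

theorem two_ne_zero' (hodd : Odd (Fintype.card F)) : (2 : F) ≠ 0 := by
  refine Ring.two_ne_zero fun h2 => ?_
  haveI := CharP.congr (R := F) (ringChar F) h2
  have h := FiniteField.even_card_iff_char_two.1 h2
  rw [Nat.odd_iff] at hodd
  omega

theorem neg_one_ne_one' (hodd : Odd (Fintype.card F)) {d : ℕ} (hd : 0 < d) :
    (-1 : GL (Fin d) F) ≠ 1 := fun h => by
  have e := congrFun (congrFun
    (show ((-1 : GL (Fin d) F) : Matrix (Fin d) (Fin d) F) = 1 by rw [h]; rfl) ⟨0, hd⟩) ⟨0, hd⟩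
  simp only [Units.val_neg, Units.val_one, Matrix.neg_apply, Matrix.one_apply_eq] at e
  exact two_ne_zero' hodd (by linear_combination -e)

/-- The group `{1, -1}`. -/
def signs (F : Type*) [Field F] (d : ℕ) : Subgroup (GL (Fin d) F) := Subgroup.zpowers (-1)

theorem card_signs (hodd : Odd (Fintype.card F)) {d : ℕ} (hd : 0 < d) :
    Nat.card (signs F d) = 2 := by
  rw [signs, Nat.card_zpowers]
  exact orderOf_eq_prime (neg_one_sq) (neg_one_ne_one' hodd hd)

theorem mem_signs {d : ℕ} {c : GL (Fin d) F} (h : c = 1 ∨ c = -1) : c ∈ signs F d := by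
  rcases h with rfl | rfl
  · exact one_mem _
  · exact Subgroup.mem_zpowers _

theorem signs_central {d : ℕ} : ∀ c ∈ signs F d, c ∈ Subgroup.center (GL (Fin d) F) ∧ c ^ 2 = 1 := by
  rintro _ ⟨k, rfl⟩
  refine ⟨zpow_mem (Subgroup.mem_center_iff.2 fun g => (Commute.neg_one_left g).eq.symm) k, ?_⟩
  show ((-1 : GL (Fin d) F) ^ k) ^ 2 = 1
  rw [← zpow_natCast, ← _root_.zpow_mul, mul_comm, _root_.zpow_mul, zpow_natCast, neg_one_sq, _root_.one_zpow]

/-- Elementary abelian 2-subgroups of `GL_n`. -/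
theorem card_elem_le (hodd : Odd (Fintype.card F)) {n : ℕ} (E : Subgroup (GL (Fin n) F))
    (hE : Cfsg.IsElementaryAbelian 2 E) : Nat.card E ≤ 2 ^ n := by
  classical
  let ρ : GL (Fin n) F → End F (Fin n → F) := fun x => Matrix.toLin' (x : Matrix (Fin n) (Fin n) F)
  have hρ : Function.Injective ρ := fun a b h => Units.ext (Matrix.toLin'.injective h)
  have hmul : ∀ a b v, ρ a (ρ b v) = ρ (a * b) v := fun a b v => by
    simp only [ρ, Matrix.toLin'_apply, Units.val_mul, Matrix.mulVec_mulVec]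
  have h := card_pow_le (two_ne_zero' hodd) (ρ '' (E : Set (GL (Fin n) F))) (Set.toFinite _)
    (by
      rintro _ ⟨a, ha, rfl⟩ v
      rw [hmul, ← sq, hE.2 a ha]
      simp [ρ])
    (by
      rintro _ ⟨a, ha, rfl⟩ _ ⟨b, hb, rfl⟩ v
      rw [hmul, hmul, show a * b = b * a from congrArg Subtype.val (hE.1.is_comm.comm ⟨a, ha⟩ ⟨b, hb⟩)])
    (fun _ => True) 1 (fun _ _ _ _ _ => ⟨trivial, trivial⟩)
    (fun W _ hW => Nat.one_le_iff_ne_zero.2 fun e => hW (Submodule.finrank_eq_zero.1 e)) trivial
  rw [pow_one, Module.finrank_fin_fun, Nat.card_image_of_injective hρ] at h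
  exact h

theorem hasNormal_GL {q : ℕ} (hF : Fintype.card F = q) (hq : Odd q) (h4 : q % 4 = 1) (n : ℕ) :
    HasNormal (GL (Fin n) F) (2 ^ n) := by
  have e : Idx 1 n 0 ≃ Fin n := ((Equiv.sumEmpty _ _).trans (Equiv.uniqueProd _ _))
  have hG : (Nat.card (GL (Idx 1 n 0) F)).factorization 2 =
      n * (Nat.card (GL (Fin 1) F)).factorization 2 + (Nat.card (GL (Fin 0) F)).factorization 2 +
        (Nat.factorial n).factorization 2 := by
    rw [Nat.card_congr (glReindex e).toEquiv, Nat.card_of_subsingleton (1 : GL (Fin 0) F),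
      Nat.factorization_one]
    exact (v2_card_GL_one_mod_four hF hq h4 n).trans (by simp [v2])
  have h := (glEmb (F := F) (d := 1) Nat.one_pos n 0).hasNormal hG (signs F 1) signs_central ⊥
    (fun c hc => by rw [Subgroup.mem_bot.1 hc]; exact ⟨one_mem _, one_pow 2⟩)
  rw [card_signs (hF ▸ hq) Nat.one_pos, Subgroup.card_bot, mul_one] at h
  exact h.congr (glReindex e)

theorem root_of_two_group {q : ℕ} (hF : Fintype.card F = q) (h4 : q % 4 = 3) {x : F} {k : ℕ}
    (hx : x ^ (2 ^ k) = 1) : x = 1 ∨ x = -1 := by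
  have hx0 : x ≠ 0 := by
    rintro rfl
    rw [zero_pow (pow_ne_zero _ two_ne_zero)] at hx
    exact zero_ne_one hx
  have h1 : x ^ (q - 1) = 1 := hF ▸ FiniteField.pow_card_sub_one_eq_one x hx0
  have h2 := pow_gcd_eq_one.2 ⟨hx, h1⟩
  obtain ⟨j, hj, hj'⟩ := (Nat.dvd_prime_pow Nat.prime_two).1 (Nat.gcd_dvd_left (2 ^ k) (q - 1))
  have hj1 : j ≤ 1 := by
    by_contra hc
    have h3 : 4 ∣ q - 1 := (Dvd.dvd.trans (pow_dvd_pow 2 (show 2 ≤ j by omega))
      (hj' ▸ Nat.gcd_dvd_right (2 ^ k) (q - 1)))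
    omega
  rw [hj'] at h2
  rcases (show j = 0 ∨ j = 1 by omega) with rfl | rfl
  · exact Or.inl (by simpa using h2)
  · rw [pow_one] at h2
    exact sq_eq_one_iff.1 h2

theorem small_centralizer {q : ℕ} (hF : Fintype.card F = q) (h4 : q % 4 = 3) {e : GL (Fin 2) F}
    (he : e ^ 2 = 1) (h1 : e ≠ 1) (h1' : e ≠ -1) :
    (∀ H : Subgroup (GL (Fin 2) F), IsPGroup 2 H → (∀ h ∈ H, h * e = e * h) → Nat.card H ≤ 4) ∧
      ∀ f : GL (Fin 2) F, f ^ 2 = 1 → f * e = e * f → f = 1 ∨ f = -1 ∨ f = e ∨ f = -e := by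
  have hodd : Odd (Fintype.card F) := by rw [hF, Nat.odd_iff]; omega
  have h2 := two_ne_zero' hodd
  set A : End F (Fin 2 → F) := Matrix.toLin' (e : Matrix (Fin 2) (Fin 2) F) with hA
  have hAA : ∀ v, A (A v) = v := fun v => by
    simp only [hA, Matrix.toLin'_apply, Matrix.mulVec_mulVec, ← Units.val_mul]
    rw [← sq, he, Units.val_one, Matrix.one_mulVec]
  obtain ⟨a, ha⟩ : ∃ v, A v ≠ -v := by
    by_contra h
    push_neg at h
    refine h1' (Units.ext (Matrix.toLin'.injective (LinearMap.ext fun v => ?_)))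
    rw [← hA, h, Units.val_neg, Units.val_one]
    simp
  obtain ⟨b, hb⟩ : ∃ v, A v ≠ v := by
    by_contra h
    push_neg at h
    refine h1 (Units.ext (Matrix.toLin'.injective (LinearMap.ext fun v => ?_)))
    rw [← hA, h, Units.val_one]
    simp
  set P := End.eigenspace A 1
  set N := End.eigenspace A (-1)
  have hpa : a + A a ∈ P := End.mem_eigenspace_iff.2 (by rw [map_add, hAA, one_smul, add_comm])
  have hnb : b - A b ∈ N := End.mem_eigenspace_iff.2 (by rw [map_sub, hAA, neg_one_smul, neg_sub])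
  have hp0 : a + A a ≠ 0 := fun h => ha (eq_neg_of_add_eq_zero_right h)
  have hn0 : b - A b ≠ 0 := fun h => hb (sub_eq_zero.1 h).symm
  have hdisj : P ⊓ N = ⊥ := (Submodule.eq_bot_iff _).2 fun w hw => by
    have a1 := End.mem_eigenspace_iff.1 hw.1
    have a2 := End.mem_eigenspace_iff.1 hw.2
    rw [a1, ← sub_eq_zero, ← sub_smul, smul_eq_zero] at a2
    exact a2.resolve_left (by rw [sub_neg_eq_add, one_add_one_eq_two]; exact h2)
  have hsum := Submodule.finrank_sup_add_finrank_inf_eq P N
  rw [hdisj, finrank_bot, add_zero] at hsum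
  have hle := (Submodule.finrank_le (P ⊔ N)).trans_eq (Module.finrank_fin_fun F)
  have hPpos : 1 ≤ finrank F P := Submodule.one_le_finrank_iff.2 fun h => hp0 ((Submodule.eq_bot_iff _).1 h _ hpa)
  have hNpos : 1 ≤ finrank F N := Submodule.one_le_finrank_iff.2 fun h => hn0 ((Submodule.eq_bot_iff _).1 h _ hnb)
  have hline : ∀ (L : Submodule F (Fin 2 → F)) (u : Fin 2 → F), finrank F L = 1 → u ∈ L → u ≠ 0 →
      ∀ w ∈ L, ∃ t : F, w = t • u := by
    intro L u hL hu hu0 w hw
    obtain ⟨t, ht⟩ := (finrank_eq_one_iff_of_nonzero' (⟨u, hu⟩ : L)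
      (fun h => hu0 (congrArg Subtype.val h))).1 hL ⟨w, hw⟩
    exact ⟨t, (congrArg Subtype.val ht).symm⟩
  set u := a + A a
  set w := b - A b
  have hcom : ∀ c : GL (Fin 2) F, c * e = e * c → ∃ s t : F,
      (c : Matrix (Fin 2) (Fin 2) F) *ᵥ u = s • u ∧ (c : Matrix (Fin 2) (Fin 2) F) *ᵥ w = t • w := by
    intro c hc
    have hc' : ∀ v, A ((c : Matrix (Fin 2) (Fin 2) F) *ᵥ v) = (c : Matrix (Fin 2) (Fin 2) F) *ᵥ A v :=
      fun v => by simp only [hA, Matrix.toLin'_apply, Matrix.mulVec_mulVec, ← Units.val_mul, hc]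
    obtain ⟨s, hs⟩ := hline P u (by omega) hpa hp0 _ (End.mem_eigenspace_iff.2 (by
      rw [hc', End.mem_eigenspace_iff.1 hpa, Matrix.mulVec_smul]))
    obtain ⟨t, ht⟩ := hline N w (by omega) hnb hn0 _ (End.mem_eigenspace_iff.2 (by
      rw [hc', End.mem_eigenspace_iff.1 hnb, Matrix.mulVec_smul]))
    exact ⟨s, t, hs, ht⟩
  have hext : ∀ c d : GL (Fin 2) F,
      (c : Matrix (Fin 2) (Fin 2) F) *ᵥ u = (d : Matrix (Fin 2) (Fin 2) F) *ᵥ u →
      (c : Matrix (Fin 2) (Fin 2) F) *ᵥ w = (d : Matrix (Fin 2) (Fin 2) F) *ᵥ w → c = d := by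
    intro c d hu' hw'
    have htop : P ⊔ N = ⊤ := Submodule.eq_top_of_finrank_eq (by
      rw [Module.finrank_fin_fun]; omega)
    refine Units.ext (Matrix.ext_of_mulVec_single fun i => ?_)
    obtain ⟨x, hx, y, hy, he'⟩ := Submodule.mem_sup.1 (htop.ge (Submodule.mem_top (x := Pi.single i (1 : F))))
    obtain ⟨s, rfl⟩ := hline P u (by omega) hpa hp0 x hx
    obtain ⟨t, rfl⟩ := hline N w (by omega) hnb hn0 y hy
    rw [← he', Matrix.mulVec_add, Matrix.mulVec_add, Matrix.mulVec_smul, Matrix.mulVec_smul,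
      Matrix.mulVec_smul, Matrix.mulVec_smul, hu', hw']
  have hpow : ∀ (c : GL (Fin 2) F) (v : Fin 2 → F) (s : F) (k : ℕ),
      (c : Matrix (Fin 2) (Fin 2) F) *ᵥ v = s • v →
      ((c ^ k : GL (Fin 2) F) : Matrix (Fin 2) (Fin 2) F) *ᵥ v = s ^ k • v := by
    intro c v s k hv
    induction k with
    | zero => simp
    | succ k ih => rw [pow_succ, Units.val_mul, ← Matrix.mulVec_mulVec, hv, Matrix.mulVec_smul, ih,
        smul_smul, pow_succ']
  refine ⟨fun H hH hHe => ?_, fun f hf hfe => ?_⟩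
  · choose S T hS hT using fun h : H => hcom h.1 (hHe _ h.2)
    have hroot : ∀ h : H, (S h = 1 ∨ S h = -1) ∧ (T h = 1 ∨ T h = -1) := fun h => by
      obtain ⟨k, hk⟩ := hH h
      have hk' : (h.1 ^ (2 ^ k) : GL (Fin 2) F) = 1 := congrArg Subtype.val hk
      have a1 := hpow _ _ _ (2 ^ k) (hS h)
      have a2 := hpow _ _ _ (2 ^ k) (hT h)
      rw [hk', Units.val_one, Matrix.one_mulVec] at a1 a2
      exact ⟨root_of_two_group hF h4 (k := k) (smul_left_injective F hp0 (by simpa using a1.symm)),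
        root_of_two_group hF h4 (k := k) (smul_left_injective F hn0 (by simpa using a2.symm))⟩
    classical
    have := Nat.card_le_card_of_injective (α := H) (β := Bool × Bool)
      (fun h => (decide (S h = 1), decide (T h = 1))) fun h h' heq => by
      simp only [Prod.ext_iff, decide_eq_decide] at heq
      have key : ∀ a b : F, (a = 1 ∨ a = -1) → (b = 1 ∨ b = -1) → (a = 1 ↔ b = 1) → a = b := by
        rintro a b (rfl | rfl) (rfl | rfl) hab
        · rfl
        · exact (hab.1 rfl).symm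
        · exact hab.2 rfl
        · rfl
      have e1 := key _ _ (hroot h).1 (hroot h').1 heq.1
      have e2 := key _ _ (hroot h).2 (hroot h').2 heq.2
      exact Subtype.ext (hext _ _ (by rw [hS, hS, e1]) (by rw [hT, hT, e2]))
    simpa using this
  · obtain ⟨s, t, hs, ht⟩ := hcom f hfe
    have a1 := hpow _ _ _ 2 hs
    have a2 := hpow _ _ _ 2 ht
    rw [hf, Units.val_one, Matrix.one_mulVec] at a1 a2
    have hs2 := sq_eq_one_iff.1 (smul_left_injective F hp0 (show s ^ 2 • u = (1 : F) • u by rw [← a1, one_smul]))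
    have ht2 := sq_eq_one_iff.1 (smul_left_injective F hn0 (show t ^ 2 • w = (1 : F) • w by rw [← a2, one_smul]))
    have heu : (e : Matrix (Fin 2) (Fin 2) F) *ᵥ u = (1 : F) • u := End.mem_eigenspace_iff.1 hpa
    have hew : (e : Matrix (Fin 2) (Fin 2) F) *ᵥ w = (-1 : F) • w := End.mem_eigenspace_iff.1 hnb
    rcases hs2 with rfl | rfl <;> rcases ht2 with rfl | rfl
    · exact Or.inl (hext _ _ (by simp [hs]) (by simp [ht]))
    · exact Or.inr (Or.inr (Or.inl (hext _ _ (by rw [hs, heu]) (by rw [ht, hew]))))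
    · refine Or.inr (Or.inr (Or.inr (hext _ _ ?_ ?_)))
      · rw [hs, Units.val_neg, Matrix.neg_mulVec, heu]; simp
      · rw [ht, Units.val_neg, Matrix.neg_mulVec, hew]; simp
    · refine Or.inr (Or.inl (hext _ _ ?_ ?_))
      · rw [hs, Units.val_neg, Units.val_one, Matrix.neg_mulVec]; simp
      · rw [ht, Units.val_neg, Units.val_one, Matrix.neg_mulVec]; simp

theorem rank_GL_three {q : ℕ} (hF : Fintype.card F = q) (hq : Odd q) (h4 : q % 4 = 3) (n : ℕ) :
    HasNormal (GL (Fin n) F) (2 ^ ((n + 1) / 2)) ∧ AllLe (GL (Fin n) F) (2 ^ ((n + 1) / 2)) := by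
  classical
  haveI := Fact.mk Nat.prime_two
  have hodd : Odd (Fintype.card F) := hF ▸ hq
  obtain ⟨m, r, hr, rfl⟩ : ∃ m r, r ≤ 1 ∧ n = 2 * m + r := ⟨n / 2, n % 2, by omega, by omega⟩
  have e : Idx 2 m r ≃ Fin (2 * m + r) :=
    (Equiv.sumCongr finProdFinEquiv (Equiv.refl _)).trans finSumFinEquiv
  let M := glEmb (F := F) (d := 2) two_pos m r
  have hG : (Nat.card (GL (Idx 2 m r) F)).factorization 2 =
      m * (Nat.card (GL (Fin 2) F)).factorization 2 + (Nat.card (GL (Fin r) F)).factorization 2 +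
        (Nat.factorial m).factorization 2 := by
    rw [Nat.card_congr (glReindex e).toEquiv]
    exact v2_card_GL_three_mod_four hF hq h4 m r hr
  have hvr : (Nat.card (GL (Fin r) F)).factorization 2 = r := by
    rcases (show r = 0 ∨ r = 1 by omega) with rfl | rfl
    · rw [Nat.card_of_subsingleton (1 : GL (Fin 0) F), Nat.factorization_one]; rfl
    · refine (v2_card_GL_one hF hq).trans (v2_two_mod_four ?_)
      omega
  have hexp : (2 * m + r + 1) / 2 = m + r := by omega
  refine ⟨?_, ?_⟩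
  · have h := M.hasNormal hG (signs F 2) signs_central (signs F r) signs_central
    have hc : Nat.card (signs F r) = 2 ^ r := by
      rcases (show r = 0 ∨ r = 1 by omega) with rfl | rfl
      · rw [Nat.card_of_subsingleton (1 : signs F 0)]; rfl
      · rw [card_signs hodd Nat.one_pos]; rfl
    rw [card_signs hodd two_pos, hc, ← pow_add, ← hexp] at h
    exact h.congr (glReindex e)
  · let e₀ : GL (Fin 2) F := Matrix.GeneralLinearGroup.mkOfDetNeZero (Matrix.diagonal ![1, -1])
      (by simp [Matrix.det_diagonal])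
    have he₀ : e₀ ^ 2 = 1 := by
      apply Units.ext
      show (Matrix.diagonal ![(1 : F), -1]) ^ 2 = 1
      rw [Matrix.diagonal_pow, ← Matrix.diagonal_one]
      congr 1; ext i; fin_cases i <;> simp
    have hd1 : e₀ ≠ 1 := fun h => by
      have := congrFun (congrFun (show (e₀ : Matrix (Fin 2) (Fin 2) F) = 1 by rw [h]; rfl) 1) 1
      simp [e₀] at this
      exact two_ne_zero' hodd (by linear_combination -this)
    have hd1' : e₀ ≠ -1 := fun h => by
      have := congrFun (congrFun (show (e₀ : Matrix (Fin 2) (Fin 2) F) = -1 by rw [h]; rfl) 0) 0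
      simp [e₀] at this
      exact two_ne_zero' hodd (by linear_combination this)
    obtain ⟨W, hW⟩ := (show IsPGroup 2 (Subgroup.zpowers e₀) from fun x => ⟨1, by
      obtain ⟨k, hk⟩ := x.2
      apply Subtype.ext
      rw [pow_one, SubgroupClass.coe_pow, OneMemClass.coe_one, ← hk]
      show (e₀ ^ k) ^ 2 = 1
      rw [← zpow_natCast, ← _root_.zpow_mul,
        mul_comm, _root_.zpow_mul, zpow_natCast, he₀, _root_.one_zpow]⟩).exists_le_sylow
    have hcardW : 16 ≤ Nat.card (W : Subgroup (GL (Fin 2) F)) := by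
      rw [W.card_eq_multiplicity]
      refine le_trans (le_of_eq (by norm_num : 16 = 2 ^ 4)) (Nat.pow_le_pow_right two_pos ?_)
      show 4 ≤ v2 (Nat.card (GL (Fin 2) F))
      rw [v2_card_GL hF hq, Finset.sum_range_succ, Finset.sum_range_one]
      have h3 : v2 (q ^ (1 + 1) - 1) = v2 (q + 1) + v2 (q - 1) := by
        rw [← v2_mul (by omega) (by omega)]
        exact congrArg v2 (by simpa using Nat.sq_sub_sq q 1)
      have h4' : v2 (q - 1) = 1 := v2_two_mod_four (by omega)
      have h5 : 2 ≤ v2 (q + 1) := by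
        obtain ⟨k, hk⟩ : 4 ∣ q + 1 := by omega
        rw [hk, v2_mul (by norm_num) (by omega), show (4 : ℕ) = 2 * 2 from rfl,
          v2_mul two_ne_zero two_ne_zero, v2_two]
        omega
      rw [show (0 : ℕ) + 1 = 1 from rfl, pow_one]
      omega
    have hC := small_centralizer hF h4 he₀ hd1 hd1'
    have hWnc : ∃ u ∈ (W : Subgroup (GL (Fin 2) F)), ∃ v ∈ (W : Subgroup (GL (Fin 2) F)),
        u * v ≠ v * u := by
      by_contra h
      push_neg at h
      have := hC.1 W W.isPGroup' fun x hx => h x hx e₀ (hW (Subgroup.mem_zpowers _))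
      omega
    have hWC : ∀ E : Subgroup (W : Subgroup (GL (Fin 2) F)), E.Normal →
        Cfsg.IsElementaryAbelian 2 E → ∀ x ∈ E, (x : GL (Fin 2) F) ∈ signs F 2 := by
      intro E hn he x hx
      by_contra hns
      have hx1 : (x : GL (Fin 2) F) ≠ 1 := fun h => hns (mem_signs (Or.inl h))
      have hx1' : (x : GL (Fin 2) F) ≠ -1 := fun h => hns (mem_signs (Or.inr h))
      have hx2 : (x : GL (Fin 2) F) ^ 2 = 1 := congrArg Subtype.val (he.2 x hx)
      obtain ⟨hC1, hC2⟩ := small_centralizer hF h4 hx2 hx1 hx1'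
      set C := Subgroup.centralizer ({x} : Set (W : Subgroup (GL (Fin 2) F)))
      have hCle : Nat.card C ≤ 4 := by
        rw [← Subgroup.card_map_of_injective (f := (W : Subgroup (GL (Fin 2) F)).subtype)
          Subtype.val_injective]
        refine hC1 _ ((W.isPGroup'.to_subgroup C).map _) ?_
        rintro _ ⟨y, hy, rfl⟩
        exact congrArg Subtype.val (Subgroup.mem_centralizer_singleton_iff.1 hy)
      have hconj : ∀ y : (W : Subgroup (GL (Fin 2) F)),
          (y * x * y⁻¹ : (W : Subgroup (GL (Fin 2) F))).1 = x.1 ∨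
          (y * x * y⁻¹ : (W : Subgroup (GL (Fin 2) F))).1 = -x.1 := by
        intro y
        have hy := hn.conj_mem x hx y
        have h1 : (y * x * y⁻¹).1 ^ 2 = 1 := congrArg Subtype.val (he.2 _ hy)
        have h2 : (y * x * y⁻¹).1 * x.1 = x.1 * (y * x * y⁻¹).1 :=
          congrArg (fun z : E => z.1.1) (he.1.is_comm.comm ⟨_, hy⟩ ⟨x, hx⟩)
        have e1 : (y * x * y⁻¹).1 = y.1 * x.1 * y.1⁻¹ := rfl
        rcases hC2 _ h1 h2 with h | h | h | h
        · exact absurd (by simpa [mul_inv_eq_one] using e1.symm.trans h) hx1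
        · refine absurd ?_ hx1'
          rw [e1, mul_inv_eq_iff_eq_mul] at h
          rw [neg_one_mul] at h
          exact mul_left_cancel (h.trans (mul_neg_one y.1).symm)
        · exact Or.inl h
        · exact Or.inr h
      have hidx : C.index ≤ 2 := by
        rw [Subgroup.index]
        refine le_trans (Nat.card_le_card_of_injective (β := Bool) (fun z => Quotient.liftOn' z
          (fun y => decide ((y * x * y⁻¹ : (W : Subgroup (GL (Fin 2) F))) = x)) ?_) ?_) (by simp)
        · intro a b hab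
          rw [QuotientGroup.leftRel_apply, Subgroup.mem_centralizer_singleton_iff] at hab
          have : b * x * b⁻¹ = a * x * a⁻¹ := by
            calc b * x * b⁻¹ = a * (a⁻¹ * b * x) * b⁻¹ := by group
              _ = a * x * a⁻¹ := by rw [hab]; group
          simp only [this]
        · intro z z' hzz
          induction z using Quotient.inductionOn' with
          | h a =>
          induction z' using Quotient.inductionOn' with
          | h b =>
          simp only [Quotient.liftOn'_mk'', decide_eq_decide] at hzz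
          have heq : a * x * a⁻¹ = b * x * b⁻¹ := by
            by_cases hA : a * x * a⁻¹ = x
            · rw [hA, hzz.1 hA]
            · have hB : ¬ b * x * b⁻¹ = x := fun h => hA (hzz.2 h)
              exact Subtype.ext (((hconj a).resolve_left fun h => hA (Subtype.ext h)).trans
                ((hconj b).resolve_left fun h => hB (Subtype.ext h)).symm)
          refine Quotient.sound' ?_
          rw [QuotientGroup.leftRel_apply, Subgroup.mem_centralizer_singleton_iff]
          calc a⁻¹ * b * x = a⁻¹ * (b * x * b⁻¹) * b := by group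
            _ = x * (a⁻¹ * b) := by rw [← heq]; group
      have := Subgroup.card_mul_index C
      nlinarith
    have h := M.allLe hG (signs F 2) W hWnc hWC
    rw [card_signs hodd two_pos, hvr, ← pow_add, ← hexp] at h
    exact h.congr (glReindex e)

end CfsgLib.NormalRank
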