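import Mathlib
import Cfsg.Agent.Lib.Classical.NormalRank.Linear
import Cfsg.Agent.Lib.Classical.SympTrans

set_option autoImplicit false
set_option linter.unusedSectionVars false

/-!
Normal 2-rank of Sylow 2-subgroups of symplectic groups in odd characteristic.
-/

namespace CfsgLib.NormalRank

open Matrix Equiv Module Cfsg CfsgLib.Classical.SympTrans

variable {F : Type*} [Field F] {n : ℕ}

/-- Block diagonal `SL_2`. -/
def spBaseMat (x : (Fin n → SpecialLinearGroup (Fin 2) F) × PUnit.{1}) :
    Matrix (Fin n ⊕ Fin n) (Fin n ⊕ Fin n) F :=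
  fromBlocks (diagonal fun i => x.1 i 0 0) (diagonal fun i => x.1 i 0 1)
    (diagonal fun i => x.1 i 1 0) (diagonal fun i => x.1 i 1 1)

theorem spBaseMat_mul (x y : (Fin n → SpecialLinearGroup (Fin 2) F) × PUnit.{1}) :
    spBaseMat (x * y) = spBaseMat x * spBaseMat y := by
  rw [spBaseMat, spBaseMat, spBaseMat, fromBlocks_multiply]
  simp only [diagonal_mul_diagonal, diagonal_add]
  congr 1 <;> congr 1 <;> funext i <;>
    simp [Matrix.mul_apply, Fin.sum_univ_two]

theorem spBaseMat_one : spBaseMat (1 : (Fin n → SpecialLinearGroup (Fin 2) F) × PUnit.{1}) = 1 := by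
  rw [spBaseMat, ← fromBlocks_one]
  congr 1 <;> simp

theorem spBaseMat_mem (x : (Fin n → SpecialLinearGroup (Fin 2) F) × PUnit.{1}) :
    spBaseMat x ∈ Matrix.symplecticGroup (Fin n) F := by
  rw [SymplecticGroup.mem_iff, spBaseMat, J, fromBlocks_transpose, fromBlocks_multiply,
    fromBlocks_multiply]
  have hd : ∀ i, x.1 i 0 0 * x.1 i 1 1 - x.1 i 0 1 * x.1 i 1 0 = 1 := fun i => by
    have := (x.1 i).2
    rwa [Matrix.det_fin_two] at this
  simp only [mul_one, mul_zero, Matrix.mul_neg, add_zero, zero_add, diagonal_transpose,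
    diagonal_mul_diagonal, Matrix.neg_mul, diagonal_neg, diagonal_add, ← diagonal_one]
  congr 1 <;> ext i j <;> rcases eq_or_ne i j with rfl | h <;>
    simp_all [Matrix.diagonal_apply_eq, Matrix.diagonal_apply_ne] <;>
      first
        | ring1
        | linear_combination (hd i)
        | linear_combination -(hd i)

/-- The base, in the symplectic group. -/
def spBase : (Fin n → SpecialLinearGroup (Fin 2) F) × PUnit.{1} →* Matrix.symplecticGroup (Fin n) F where
  toFun x := ⟨spBaseMat x, spBaseMat_mem x⟩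
  map_one' := Subtype.ext spBaseMat_one
  map_mul' x y := Subtype.ext (spBaseMat_mul x y)

/-- Permuting the planes. -/
def spPerm : Perm (Fin n) →* Perm (Fin n ⊕ Fin n) where
  toFun π := Equiv.sumCongr π π
  map_one' := by ext (i | i) <;> simp
  map_mul' π σ := by ext (i | i) <;> simp

theorem spPerm_mem (π : Perm (Fin n)) :
    (pm (spPerm π) : Matrix (Fin n ⊕ Fin n) (Fin n ⊕ Fin n) F) ∈ Matrix.symplecticGroup (Fin n) F := by
  rw [SymplecticGroup.mem_iff]
  have ht : (pm (spPerm π) : Matrix (Fin n ⊕ Fin n) (Fin n ⊕ Fin n) F)ᵀ = pm (spPerm π⁻¹) := by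
    ext i j
    obtain ⟨k, rfl⟩ := (spPerm π).surjective j
    rw [Matrix.transpose_apply, pm_apply, pm_apply, map_inv]
    simp only [EmbeddingLike.apply_eq_iff_eq, Equiv.Perm.inv_def, Equiv.eq_symm_apply]
    split_ifs <;> simp_all
  rw [ht, pm_comm (B' := J (Fin n) F) _ ?_, mul_assoc, pm_mul, ← map_mul, mul_inv_cancel, map_one,
    pm_one, mul_one]
  rintro (a | a) (b | b) <;> simp [J, spPerm, Matrix.one_apply]

/-- Permuting the planes, in the symplectic group. -/
def spTop : Perm (Fin n) →* Matrix.symplecticGroup (Fin n) F where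
  toFun π := ⟨pm (spPerm π), spPerm_mem π⟩
  map_one' := Subtype.ext (by
    show (pm (spPerm 1) : Matrix (Fin n ⊕ Fin n) (Fin n ⊕ Fin n) F) = 1
    rw [map_one, pm_one])
  map_mul' π σ := Subtype.ext (by
    show (pm (spPerm (π * σ)) : Matrix (Fin n ⊕ Fin n) (Fin n ⊕ Fin n) F) = pm _ * pm _
    rw [pm_mul, map_mul])

/-- The wreath product in the symplectic group. -/
def spEmb : Emb (Matrix.symplecticGroup (Fin n) F) (SpecialLinearGroup (Fin 2) F) PUnit.{1} n where
  a := spBase
  p := spTop
  compat π f l := Subtype.ext (pm_comm _ (by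
    rintro (a | a) (b | b) <;>
      simp [spBase, spBaseMat, spPerm, diagonal_apply, Perm.inv_def]))
  inj x π h := by
    have h' : spBaseMat x = pm (spPerm π) := congrArg Subtype.val h
    have hd : ∀ i, x.1 i 0 0 * x.1 i 1 1 - x.1 i 0 1 * x.1 i 1 0 = 1 := fun i => by
      have := (x.1 i).2
      rwa [Matrix.det_fin_two] at this
    have hπ : π = 1 := by
      by_contra hne
      obtain ⟨i, hi⟩ : ∃ i, π i ≠ i := not_forall.1 fun e => hne (Equiv.ext e)
      have e := congrFun (congrFun h' (Sum.inl (π i))) (Sum.inl i)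
      simp [spBaseMat, hi, pm_apply, spPerm] at e
    refine ⟨?_, hπ⟩
    subst hπ
    rw [map_one, pm_one] at h'
    refine Prod.ext (funext fun i => Subtype.ext (Matrix.ext fun a b => ?_)) rfl
    have e00 := congrFun (congrFun h' (Sum.inl i)) (Sum.inl i)
    have e01 := congrFun (congrFun h' (Sum.inl i)) (Sum.inr i)
    have e10 := congrFun (congrFun h' (Sum.inr i)) (Sum.inl i)
    have e11 := congrFun (congrFun h' (Sum.inr i)) (Sum.inr i)
    simp [spBaseMat] at e00 e01 e10 e11
    fin_cases a <;> fin_cases b <;> simp [e00, e01, e10, e11]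

variable [Fintype F]

theorem hasNormal_Sp (hodd : Odd (Fintype.card F)) (n : ℕ) :
    HasNormal (Matrix.symplecticGroup (Fin n) F) (2 ^ n) := by
  have hz : ∀ c ∈ Subgroup.zpowers (-1 : SpecialLinearGroup (Fin 2) F),
      c ∈ Subgroup.center (SpecialLinearGroup (Fin 2) F) ∧ c ^ 2 = 1 := by
    rintro _ ⟨k, rfl⟩
    refine ⟨zpow_mem (Subgroup.mem_center_iff.2 fun g => (Commute.neg_one_left g).eq.symm) k, ?_⟩
    show ((-1 : SpecialLinearGroup (Fin 2) F) ^ k) ^ 2 = 1
    rw [← zpow_natCast, ← _root_.zpow_mul, mul_comm, _root_.zpow_mul, zpow_natCast, neg_one_sq,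
      _root_.one_zpow]
  have hcard : Nat.card (Subgroup.zpowers (-1 : SpecialLinearGroup (Fin 2) F)) = 2 := by
    rw [Nat.card_zpowers]
    refine orderOf_eq_prime neg_one_sq fun h => ?_
    have e := congrFun (congrFun (congrArg Subtype.val h) 0) 0
    simp at e
    exact two_ne_zero' hodd (by linear_combination -e)
  have hG : (Nat.card (Matrix.symplecticGroup (Fin n) F)).factorization 2 =
      n * (Nat.card (SpecialLinearGroup (Fin 2) F)).factorization 2 +
        (Nat.card PUnit.{1}).factorization 2 + (Nat.factorial n).factorization 2 := by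
    rw [Nat.card_of_subsingleton PUnit.unit, Nat.factorization_one]
    exact (v2_card_Sp rfl hodd n).trans (by simp [v2])
  have h := (spEmb (F := F) (n := n)).hasNormal hG _ hz ⊥
    (fun c hc => by rw [Subgroup.mem_bot.1 hc]; exact ⟨one_mem _, one_pow 2⟩)
  rwa [hcard, Subgroup.card_bot, mul_one] at h

/-- Elementary abelian 2-subgroups of `Sp_{2n}`. -/
theorem card_elem_le_Sp (hodd : Odd (Fintype.card F)) (E : Subgroup (Matrix.symplecticGroup (Fin n) F))
    (hE : Cfsg.IsElementaryAbelian 2 E) : Nat.card E ≤ 2 ^ n := by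
  classical
  let ρ : Matrix.symplecticGroup (Fin n) F → End F (Fin n ⊕ Fin n → F) := fun x =>
    Matrix.toLin' (x : Matrix (Fin n ⊕ Fin n) (Fin n ⊕ Fin n) F)
  have hρ : Function.Injective ρ := fun a b h => Subtype.ext (Matrix.toLin'.injective h)
  have hap : ∀ a v, ρ a v = app a v := fun a v => rfl
  have hinv : ∀ a ∈ E, ∀ v, ρ a (ρ a v) = v := fun a ha v => by
    rw [hap, hap, ← app_mul, ← sq, hE.2 a ha, app_one]
  let Good : Submodule F (Fin n ⊕ Fin n → F) → Prop := fun W =>
    ∀ x ∈ W, x ≠ 0 → ∃ y ∈ W, sympForm n F x y ≠ 0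
  have h := card_pow_le (two_ne_zero' hodd) (ρ '' (E : Set (Matrix.symplecticGroup (Fin n) F)))
    (Set.toFinite _)
    (by rintro _ ⟨a, ha, rfl⟩ v; exact hinv a ha v)
    (by
      rintro _ ⟨a, ha, rfl⟩ _ ⟨b, hb, rfl⟩ v
      rw [hap, hap, hap, hap, ← app_mul, ← app_mul,
        show a * b = b * a from congrArg Subtype.val (hE.1.is_comm.comm ⟨a, ha⟩ ⟨b, hb⟩)])
    Good 2
    (by
      rintro _ ⟨a, ha, rfl⟩ W hW hWa
      have key : ∀ (ε : F), ε * ε = 1 → Good (W ⊓ End.eigenspace (ρ a) ε) := by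
        intro ε hε x hx hx0
        obtain ⟨y, hy, hxy⟩ := hW x hx.1 hx0
        have hxe := End.mem_eigenspace_iff.1 hx.2
        refine ⟨y + ε • ρ a y, ⟨W.add_mem hy (W.smul_mem _ (hWa y hy)), End.mem_eigenspace_iff.2 ?_⟩, ?_⟩
        · rw [map_add, map_smul, hinv a ha, smul_add, smul_smul, hε, one_smul, add_comm]
        · have e1 : sympForm n F x (ρ a y) = ε * sympForm n F x y := by
            rw [← f_app a x (ρ a y), ← hap, ← hap, hinv a ha, hxe, f_smul_left]
          rw [f_add_right, f_smul_right, e1, ← mul_assoc, hε, one_mul, ← two_mul]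
          exact mul_ne_zero (two_ne_zero' hodd) hxy
      exact ⟨key 1 (one_mul 1), key (-1) (by ring)⟩)
    (by
      intro W hW hW0
      obtain ⟨x, hx, hx0⟩ := (Submodule.ne_bot_iff W).1 hW0
      obtain ⟨y, hy, hxy⟩ := hW x hx hx0
      by_contra hc
      have h1 : finrank F W = 1 := by
        have := Submodule.one_le_finrank_iff.2 hW0
        omega
      obtain ⟨t, ht⟩ := (finrank_eq_one_iff_of_nonzero' (⟨x, hx⟩ : W)
        (fun h => hx0 (congrArg Subtype.val h))).1 h1 ⟨y, hy⟩
      apply hxy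
      rw [← show t • x = y from congrArg Subtype.val ht, f_smul_right, f_self, mul_zero])
    (fun x _ hx0 => by
      by_contra hc
      push_neg at hc
      exact hx0 (eq_zero_of_f x fun v => hc v Submodule.mem_top))
  rw [Module.finrank_pi, Fintype.card_sum, Fintype.card_fin, ← two_mul, mul_comm 2 n, pow_mul,
    Nat.card_image_of_injective hρ] at h
  exact (Nat.pow_le_pow_iff_left two_ne_zero).1 h

end CfsgLib.NormalRank
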